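import Groth.Agent.InvGen.NormalDvd
import Mathlib.Topology.Sheaves.SheafCondition.UniqueGluing
import Mathlib.RingTheory.Ideal.Height
import Mathlib.AlgebraicGeometry.AffineScheme
import Mathlib.AlgebraicGeometry.Morphisms.QuasiCompact

/-!
# Functions extend across closed subsets where the local rings are normal of dimension at least two

(variant of `Groth.Agent.FinSect.Hartogs` with normal in place of regular local rings)

No Noetherian hypothesis on the scheme is needed.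
-/

universe u

open CategoryTheory CategoryTheory.Limits AlgebraicGeometry TopologicalSpace Opposite

set_option backward.isDefEq.respectTransparency false
set_option backward.isDefEq.respectTransparency.types false

noncomputable section

namespace Groth.Agent.FlatHartogs.Normal

variable {X : Scheme.{u}} {U : X.Opens}

variable (hZ : ∀ z : X, z ∉ U → (IsDomain (X.presheaf.stalk z) ∧ IsIntegrallyClosed (X.presheaf.stalk z) ∧ IsNoetherianRing (X.presheaf.stalk z)) ∧
  (2 : WithBot ℕ∞) ≤ ringKrullDim (X.presheaf.stalk z))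

/-- The point of a prime of the local ring at `z`. -/
def pt {V : X.Opens} (hV : IsAffineOpen V) {z : X} (hz : z ∈ V) (Q : Ideal (X.presheaf.stalk z)) [Q.IsPrime] : X :=
  hV.fromSpec ⟨Q.comap (X.presheaf.germ V z hz).hom, inferInstance⟩

theorem pt_mem {V : X.Opens} (hV : IsAffineOpen V) {z : X} (hz : z ∈ V) (Q : Ideal (X.presheaf.stalk z)) [Q.IsPrime] :
    pt hV hz Q ∈ V := by
  have h : pt hV hz Q ∈ Set.range hV.fromSpec := ⟨_, rfl⟩
  rwa [hV.range_fromSpec] at h

theorem pt_mono {V : X.Opens} (hV : IsAffineOpen V) {z : X} (hz : z ∈ V) {Q Q' : Ideal (X.presheaf.stalk z)}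
    [Q.IsPrime] [Q'.IsPrime] (h : Q ≤ Q') : pt hV hz Q ⤳ pt hV hz Q' :=
  ((PrimeSpectrum.le_iff_specializes _ _).1 (Ideal.comap_mono h)).map hV.fromSpec.continuous

/-- Basic properties of the point of a prime. -/
theorem pt_spec {V : X.Opens} (hV : IsAffineOpen V) {z : X} (hz : z ∈ V)
    (Q : Ideal (X.presheaf.stalk z)) [Q.IsPrime] :
    pt hV hz Q ⤳ z ∧ ringKrullDim (X.presheaf.stalk (pt hV hz Q)) = Q.height ∧
      (∀ e : Γ(X, V), X.presheaf.germ V _ (pt_mem hV hz Q) e = 0 →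
        ∃ h : Γ(X, V), X.presheaf.germ V z hz h ∉ Q ∧ h * e = 0) ∧
      (∀ e : Γ(X, V), X.presheaf.germ V z hz e ∉ Q → IsUnit (X.presheaf.germ V _ (pt_mem hV hz Q) e)) ∧
      (∀ b : X.presheaf.stalk (pt hV hz Q), ∃ a c : Γ(X, V), X.presheaf.germ V z hz c ∉ Q ∧
        b * X.presheaf.germ V _ (pt_mem hV hz Q) c = X.presheaf.germ V _ (pt_mem hV hz Q) a) := by
  letI : Algebra Γ(X, V) (X.presheaf.stalk z) := TopCat.Presheaf.algebra_section_stalk X.presheaf (⟨z, hz⟩ : V)
  haveI : IsLocalization.AtPrime (X.presheaf.stalk z) (hV.primeIdealOf ⟨z, hz⟩).asIdeal :=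
    hV.isLocalization_stalk ⟨z, hz⟩
  let q : PrimeSpectrum Γ(X, V) := ⟨Q.comap (X.presheaf.germ V z hz).hom, inferInstance⟩
  letI : Algebra Γ(X, V) (X.presheaf.stalk (pt hV hz Q)) :=
    TopCat.Presheaf.algebra_section_stalk X.presheaf (⟨_, pt_mem hV hz Q⟩ : V)
  haveI : IsLocalization.AtPrime (X.presheaf.stalk (pt hV hz Q)) q.asIdeal :=
    hV.isLocalization_stalk' q (pt_mem hV hz Q)
  have hle : q.asIdeal ≤ (hV.primeIdealOf ⟨z, hz⟩).asIdeal := by
    intro a ha
    by_contra h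
    exact Ideal.IsPrime.ne_top ‹Q.IsPrime› (Ideal.eq_top_of_isUnit_mem _ ha
      (IsLocalization.map_units (X.presheaf.stalk z) (⟨a, h⟩ : (hV.primeIdealOf ⟨z, hz⟩).asIdeal.primeCompl)))
  refine ⟨?_, ?_, ?_, ?_, ?_⟩
  · have h : hV.fromSpec q ⤳ hV.fromSpec (hV.primeIdealOf ⟨z, hz⟩) :=
      ((PrimeSpectrum.le_iff_specializes q (hV.primeIdealOf ⟨z, hz⟩)).1 hle).map hV.fromSpec.continuous
    rwa [hV.fromSpec_primeIdealOf] at h
  · rw [IsLocalization.AtPrime.ringKrullDim_eq_height q.asIdeal (X.presheaf.stalk (pt hV hz Q))]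
    congr 1
    exact IsLocalization.height_comap (hV.primeIdealOf ⟨z, hz⟩).asIdeal.primeCompl Q
  · intro e he
    obtain ⟨⟨h, hh⟩, hhe⟩ :=
      (IsLocalization.map_eq_zero_iff q.asIdeal.primeCompl (X.presheaf.stalk (pt hV hz Q)) e).1 he
    exact ⟨h, hh, hhe⟩
  · intro e he
    exact IsLocalization.map_units (X.presheaf.stalk (pt hV hz Q)) (⟨e, he⟩ : q.asIdeal.primeCompl)
  · intro b
    obtain ⟨⟨a, c⟩, h⟩ := IsLocalization.surj q.asIdeal.primeCompl b
    exact ⟨a, c.1, c.2, h⟩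

include hZ in
/-- For a point outside `U` the point of the zero ideal of its local ring is in `U`. -/
theorem generic_spec {V : X.Opens} (hV : IsAffineOpen V) {z : X} (hz : z ∈ V) (hzU : z ∉ U) :
    ∃ (y : X) (hy : y ∈ V), y ⤳ z ∧ y ∈ U ∧
      (∀ e : Γ(X, V), X.presheaf.germ V y hy e = 0 → X.presheaf.germ V z hz e = 0) ∧
      (∀ e : Γ(X, V), X.presheaf.germ V z hz e ≠ 0 → IsUnit (X.presheaf.germ V y hy e)) ∧
      (∀ b : X.presheaf.stalk y, ∃ a c : Γ(X, V), X.presheaf.germ V z hz c ≠ 0 ∧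
        b * X.presheaf.germ V y hy c = X.presheaf.germ V y hy a) ∧
      ∀ (P : Ideal (X.presheaf.stalk z)) [P.IsPrime], y ⤳ pt hV hz P := by
  obtain ⟨hdom, hic, hnoe⟩ := (hZ z hzU).1
  obtain ⟨hyz, hdim, hker, hunit, hsurj⟩ := pt_spec hV hz (⊥ : Ideal (X.presheaf.stalk z))
  refine ⟨_, pt_mem hV hz ⊥, hyz, ?_, fun e he => ?_, fun e he => hunit e he, fun b => ?_,
    fun P _ => pt_mono hV hz bot_le⟩
  · by_contra hyU
    have h := (hZ _ hyU).2
    rw [hdim, Ideal.height_bot] at h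
    exact absurd h (by norm_num)
  · obtain ⟨h, hh, hhe⟩ := hker e he
    have h1 : X.presheaf.germ V z hz h * X.presheaf.germ V z hz e = 0 := by
      rw [← map_mul, hhe, map_zero]
    exact (mul_eq_zero.1 h1).resolve_left fun h0 => hh (by rw [h0]; exact Submodule.zero_mem _)
  · obtain ⟨a, c, hc, h⟩ := hsurj b
    exact ⟨a, c, fun h0 => hc (by rw [h0]; exact Submodule.zero_mem _), h⟩

/-- Nonvanishing of germs transfers to smaller opens. -/
theorem ker_transfer {V V' : X.Opens} (hV : IsAffineOpen V) {z y : X} (hz : z ∈ V) (hz' : z ∈ V')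
    (hy : y ∈ V) (hy' : y ∈ V') (hyz : y ⤳ z)
    (hker : ∀ e : Γ(X, V), X.presheaf.germ V y hy e = 0 → X.presheaf.germ V z hz e = 0)
    (e : Γ(X, V')) (he : X.presheaf.germ V' y hy' e = 0) : X.presheaf.germ V' z hz' e = 0 := by
  letI : Algebra Γ(X, V) (X.presheaf.stalk z) := TopCat.Presheaf.algebra_section_stalk X.presheaf (⟨z, hz⟩ : V)
  haveI : IsLocalization.AtPrime (X.presheaf.stalk z) (hV.primeIdealOf ⟨z, hz⟩).asIdeal :=
    hV.isLocalization_stalk ⟨z, hz⟩
  obtain ⟨⟨a, c⟩, h⟩ := IsLocalization.surj (hV.primeIdealOf ⟨z, hz⟩).asIdeal.primeCompl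
    (X.presheaf.germ V' z hz' e)
  have h' : X.presheaf.germ V' z hz' e * X.presheaf.germ V z hz c.1 = X.presheaf.germ V z hz a := h
  have h1 := congrArg (X.presheaf.stalkSpecializes hyz) h'
  rw [map_mul, X.presheaf.germ_stalkSpecializes_apply, X.presheaf.germ_stalkSpecializes_apply,
    X.presheaf.germ_stalkSpecializes_apply] at h1
  rw [hker a (by rw [← h1, he, zero_mul])] at h'
  exact (IsLocalization.map_units (X.presheaf.stalk z) c).mul_left_eq_zero.1 h'

include hZ in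
/-- Functions vanishing on `U` vanish. -/
theorem eq_of_res {N : X.Opens} {s t : Γ(X, N)}
    (h : X.presheaf.map (homOfLE inf_le_left : N ⊓ U ⟶ N).op s = X.presheaf.map (homOfLE inf_le_left : N ⊓ U ⟶ N).op t) :
    s = t := by
  refine TopCat.Presheaf.section_ext X.sheaf N s t fun z hz => ?_
  by_cases hzU : z ∈ U
  · have h' := congrArg (X.presheaf.germ (N ⊓ U) z ⟨hz, hzU⟩) h
    rwa [X.presheaf.germ_res_apply, X.presheaf.germ_res_apply] at h'
  · obtain ⟨V, hV, hzV, hVN'⟩ := exists_isAffineOpen_mem_and_subset (U := N) hz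
    have hVN : V ≤ N := hVN'
    obtain ⟨y, hy, -, hyU, hker, -, -, -⟩ := generic_spec hZ hV hzV hzU
    have hyN : y ∈ N := hVN hy
    have h' := congrArg (X.presheaf.germ (N ⊓ U) y ⟨hyN, hyU⟩) h
    rw [X.presheaf.germ_res_apply, X.presheaf.germ_res_apply] at h'
    have h2 := hker (X.presheaf.map (homOfLE hVN).op s - X.presheaf.map (homOfLE hVN).op t) (by
      rw [map_sub, X.presheaf.germ_res_apply, X.presheaf.germ_res_apply, h', sub_self])
    rw [map_sub, X.presheaf.germ_res_apply, X.presheaf.germ_res_apply, sub_eq_zero] at h2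
    exact h2

/-- A section over `V ⊓ U` whose germ at the generic point below `z` vanishes is zero near `z`. -/
theorem exists_nhd_zero [QuasiCompact U.ι] {V : X.Opens} (hV : IsAffineOpen V) {z : X} (hz : z ∈ V)
    {y : X} (hy : y ∈ V) (hyU : y ∈ U)
    (hunit : ∀ e : Γ(X, V), X.presheaf.germ V z hz e ≠ 0 → IsUnit (X.presheaf.germ V y hy e))
    (hker : ∀ e : Γ(X, V), X.presheaf.germ V y hy e = 0 → X.presheaf.germ V z hz e = 0)
    (d : Γ(X, V ⊓ U)) (hd : X.presheaf.germ (V ⊓ U) y ⟨hy, hyU⟩ d = 0) :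
    ∃ (N : X.Opens) (hN : N ≤ V), z ∈ N ∧
      X.presheaf.map (homOfLE (inf_le_inf_right U hN) : N ⊓ U ⟶ V ⊓ U).op d = 0 := by
  have hcpt : IsCompact ((V ⊓ U : X.Opens) : Set X) := by
    have h1 : IsCompact ((U.ι ⁻¹ᵁ V : U.toScheme.Opens) : Set U.toScheme) :=
      QuasiCompact.isCompact_preimage _ V.2 hV.isCompact
    have h2 := h1.image U.ι.continuous
    convert h2 using 1
    ext w
    exact ⟨fun ⟨hwV, hwU⟩ => ⟨⟨w, hwU⟩, hwV, rfl⟩, fun ⟨w', hw', e⟩ => e ▸ ⟨hw', w'.2⟩⟩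
  have hloc : ∀ w : (V ⊓ U : X.Opens), ∃ f : Γ(X, V), X.basicOpen f ≤ V ⊓ U ∧ w.1 ∈ X.basicOpen f :=
    fun w => hV.exists_basicOpen_le w w.2.1
  choose f hfle hfmem using hloc
  obtain ⟨S, hS⟩ := hcpt.elim_finite_subcover (fun w => (X.basicOpen (f w) : Set X))
    (fun w => (X.basicOpen (f w)).2) (fun w hw => Set.mem_iUnion.2 ⟨⟨w, hw⟩, hfmem ⟨w, hw⟩⟩)
  have hkill : ∀ w : (V ⊓ U : X.Opens), ∃ (N : X.Opens) (hN : N ≤ V), z ∈ N ∧
      X.presheaf.map (homOfLE ((inf_le_right).trans (hfle w)) : N ⊓ X.basicOpen (f w) ⟶ V ⊓ U).op d = 0 := by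
    intro w
    by_cases hyf : y ∈ X.basicOpen (f w)
    · haveI := hV.isLocalization_basicOpen (f w)
      obtain ⟨⟨e, m⟩, he⟩ := IsLocalization.surj (Submonoid.powers (f w))
        (X.presheaf.map (homOfLE (hfle w)).op d)
      have he' : X.presheaf.map (homOfLE (hfle w)).op d * X.presheaf.map (homOfLE (X.basicOpen_le (f w))).op m.1 =
          X.presheaf.map (homOfLE (X.basicOpen_le (f w))).op e := he
      have h1 := congrArg (X.presheaf.germ (X.basicOpen (f w)) y hyf) he'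
      rw [map_mul, X.presheaf.germ_res_apply, X.presheaf.germ_res_apply, X.presheaf.germ_res_apply, hd,
        zero_mul] at h1
      obtain ⟨N₀, hzN₀, i₁, i₂, hN₀⟩ := X.presheaf.germ_eq z hz hz e 0 (by rw [hker e h1.symm, map_zero])
      refine ⟨N₀, i₁.le, hzN₀, ?_⟩
      have hu : IsUnit (X.presheaf.map (homOfLE ((inf_le_right).trans (X.basicOpen_le (f w))) :
          N₀ ⊓ X.basicOpen (f w) ⟶ V).op m.1) := by
        have h2 : IsUnit (X.presheaf.map (homOfLE (X.basicOpen_le (f w))).op m.1) :=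
          IsLocalization.map_units Γ(X, X.basicOpen (f w)) m
        have h3 := h2.map (X.presheaf.map (homOfLE inf_le_right : N₀ ⊓ X.basicOpen (f w) ⟶ X.basicOpen (f w)).op).hom
        rwa [← CommRingCat.comp_apply, ← Functor.map_comp] at h3
      refine hu.mul_left_eq_zero.1 ?_
      have h4 := congrArg (X.presheaf.map (homOfLE inf_le_right : N₀ ⊓ X.basicOpen (f w) ⟶ X.basicOpen (f w)).op) he'
      rw [map_mul] at h4
      simp only [← CommRingCat.comp_apply, ← Functor.map_comp] at h4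
      refine h4.trans ?_
      have h5 := congrArg (X.presheaf.map (homOfLE inf_le_left : N₀ ⊓ X.basicOpen (f w) ⟶ N₀).op) hN₀
      simp only [map_zero] at h5
      rw [← CommRingCat.comp_apply, ← Functor.map_comp] at h5
      exact h5
    ·
      have h2 : ∀ z' : X, ∀ hz' : z' ∈ V, X.presheaf.germ V z' hz' (f w) = 0 → z' ∉ X.basicOpen (f w) :=
        fun z' hz' h0 hm => by
          have h := (X.mem_basicOpen (f w) z' hz').1 hm
          rw [h0] at h
          exact not_isUnit_zero (M₀ := X.presheaf.stalk z') h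
      have hfz : X.presheaf.germ V z hz (f w) = 0 :=
        by_contra fun hne => hyf ((X.mem_basicOpen (f w) y hy).2 (hunit _ hne))
      obtain ⟨N₀, hzN₀, i₁, i₂, hN₀⟩ := X.presheaf.germ_eq z hz hz (f w) 0 (by rw [hfz, map_zero])
      refine ⟨N₀, i₁.le, hzN₀, ?_⟩
      refine TopCat.Presheaf.section_ext X.sheaf _ _ _ fun z' hz' => absurd hz'.2 ?_
      refine h2 z' (X.basicOpen_le _ hz'.2) ?_
      have h3 := congrArg (X.presheaf.germ N₀ z' hz'.1) hN₀
      rw [X.presheaf.germ_res_apply, map_zero, map_zero] at h3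
      exact h3
  choose N hN hzN hNd using hkill
  let M : X.Opens := V ⊓ S.inf N
  have hmem : ∀ T : Finset (V ⊓ U : X.Opens), z ∈ T.inf N := fun T => by
    classical
    induction T using Finset.induction with
    | empty => simp
    | insert a s _ ih => rw [Finset.inf_insert]; exact ⟨hzN a, ih⟩
  refine ⟨M, inf_le_left, ⟨hz, hmem S⟩, ?_⟩
  refine TopCat.Presheaf.section_ext X.sheaf _ _ _ fun z' hz' => ?_
  obtain ⟨w, hw, hzw⟩ := Set.mem_iUnion₂.1 (hS ⟨inf_le_left (a := V) (b := S.inf N) hz'.1, hz'.2⟩)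
  have hz'N : z' ∈ N w := (Finset.inf_le hw : S.inf N ≤ N w) (inf_le_right (a := V) (b := S.inf N) hz'.1)
  have h := congrArg (X.presheaf.germ (N w ⊓ X.basicOpen (f w)) z' ⟨hz'N, hzw⟩) (hNd w)
  rw [X.presheaf.germ_res_apply, map_zero] at h
  show X.presheaf.germ (M ⊓ U) z' hz' _ = X.presheaf.germ (M ⊓ U) z' hz' _
  rw [X.presheaf.germ_res_apply, map_zero]
  exact h

include hZ in
/-- Near a point outside `U` a section over `V ⊓ U` extends. -/
theorem exists_extend_near [QuasiCompact U.ι] {V : X.Opens} (hV : IsAffineOpen V) {z : X} (hz : z ∈ V)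
    (hzU : z ∉ U) (s : Γ(X, V ⊓ U)) :
    ∃ (N : X.Opens) (hN : N ≤ V) (t : Γ(X, N)), z ∈ N ∧
      X.presheaf.map (homOfLE inf_le_left : N ⊓ U ⟶ N).op t =
        X.presheaf.map (homOfLE (inf_le_inf_right U hN) : N ⊓ U ⟶ V ⊓ U).op s := by
  obtain ⟨hdom, hic, hnoe⟩ := (hZ z hzU).1
  obtain ⟨y, hy, hyz, hyU, hker, hunit, hsurj, hyP⟩ := generic_spec hZ hV hz hzU
  obtain ⟨a, r, hr, har⟩ := hsurj (X.presheaf.germ (V ⊓ U) y ⟨hy, hyU⟩ s)
  have hr0 : X.presheaf.germ V z hz r ≠ 0 := hr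
  have hdvd : X.presheaf.germ V z hz r ∣ X.presheaf.germ V z hz a := by
    refine InvGen.dvd_of_forall_height_one hr0 fun P hP hP1 => ?_
    haveI := hP
    obtain ⟨hxz, hxdim, hxker, -, hxsurj⟩ := pt_spec hV hz P
    let x := pt hV hz P
    have hx : x ∈ V := pt_mem hV hz P
    have hxU : x ∈ U := by
      by_contra h
      have h2 := (hZ x h).2
      rw [hxdim, hP1] at h2
      exact absurd h2 (by norm_num)
    obtain ⟨a', c, hc, hac⟩ := hxsurj (X.presheaf.germ (V ⊓ U) x ⟨hx, hxU⟩ s)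
    refine ⟨X.presheaf.germ V z hz c, hc, X.presheaf.germ V z hz a', ?_⟩
    have hyx : y ⤳ x := hyP P
    have h1 := congrArg (X.presheaf.stalkSpecializes hyx) hac
    rw [map_mul, X.presheaf.germ_stalkSpecializes_apply, X.presheaf.germ_stalkSpecializes_apply,
      X.presheaf.germ_stalkSpecializes_apply] at h1
    have h2 : X.presheaf.germ V y hy (c * a - r * a') = 0 := by
      rw [map_sub, map_mul, map_mul, ← har, ← h1]; ring
    have h3 := hker _ h2
    rw [map_sub, map_mul, map_mul, sub_eq_zero] at h3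
    exact h3
  obtain ⟨t₀, ht₀⟩ := hdvd
  -- represent the quotient near `z`
  obtain ⟨N₀, hzN₀, t, ht⟩ := X.presheaf.germ_exist (x := z) t₀
  have hev : X.presheaf.germ (N₀ ⊓ V) z ⟨hzN₀, hz⟩
      (X.presheaf.map (homOfLE inf_le_right).op a -
        X.presheaf.map (homOfLE inf_le_right).op r * X.presheaf.map (homOfLE inf_le_left).op t) = 0 := by
    rw [map_sub, map_mul, X.presheaf.germ_res_apply, X.presheaf.germ_res_apply, X.presheaf.germ_res_apply, ht,
      ht₀, sub_self]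
  obtain ⟨N₁, hzN₁, i₁, i₂, hN₁⟩ := X.presheaf.germ_eq z (show z ∈ N₀ ⊓ V from ⟨hzN₀, hz⟩) (show z ∈ N₀ ⊓ V from ⟨hzN₀, hz⟩) _ 0 (hev.trans (map_zero _).symm)
  obtain ⟨V', hV', hzV', hV'N'⟩ := exists_isAffineOpen_mem_and_subset (U := N₁) hzN₁
  have hV'N : V' ≤ N₁ := hV'N'
  have hV'V : V' ≤ V := hV'N.trans (i₁.le.trans inf_le_right)
  have hV'0 : V' ≤ N₀ := hV'N.trans (i₁.le.trans inf_le_left)
  have hyV' : y ∈ V' := hyz.mem_open V'.2 hzV'
  let d : Γ(X, V' ⊓ U) := X.presheaf.map (homOfLE (inf_le_inf_right U hV'V)).op s -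
    X.presheaf.map (homOfLE (inf_le_left.trans hV'0)).op t
  have hd : X.presheaf.germ (V' ⊓ U) y ⟨hyV', hyU⟩ d = 0 := by
    have h1 := congrArg (X.presheaf.germ N₁ y (hV'N hyV')) hN₁
    rw [X.presheaf.germ_res_apply, map_zero, map_zero, map_sub, map_mul, X.presheaf.germ_res_apply,
      X.presheaf.germ_res_apply, X.presheaf.germ_res_apply, ← har, sub_eq_zero, mul_comm] at h1
    simp only [d, map_sub, X.presheaf.germ_res_apply, sub_eq_zero]
    exact (hunit r hr0).mul_left_cancel (by rw [← h1])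
  have hunit' : ∀ e : Γ(X, V'), X.presheaf.germ V' z hzV' e ≠ 0 → IsUnit (X.presheaf.germ V' y hyV' e) := by
    intro e he
    obtain ⟨⟨a', c'⟩, h⟩ : ∃ p : Γ(X, V) × Γ(X, V), IsUnit (X.presheaf.germ V z hz p.2) ∧
        X.presheaf.germ V' z hzV' e * X.presheaf.germ V z hz p.2 = X.presheaf.germ V z hz p.1 := by
      letI : Algebra Γ(X, V) (X.presheaf.stalk z) := TopCat.Presheaf.algebra_section_stalk X.presheaf (⟨z, hz⟩ : V)
      haveI : IsLocalization.AtPrime (X.presheaf.stalk z) (hV.primeIdealOf ⟨z, hz⟩).asIdeal :=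
        hV.isLocalization_stalk ⟨z, hz⟩
      obtain ⟨⟨a', c'⟩, h⟩ := IsLocalization.surj (hV.primeIdealOf ⟨z, hz⟩).asIdeal.primeCompl
        (X.presheaf.germ V' z hzV' e)
      exact ⟨(a', c'.1), IsLocalization.map_units (X.presheaf.stalk z) c', h⟩
    have ha : X.presheaf.germ V z hz a' ≠ 0 := fun h0 => he (h.1.mul_left_eq_zero.1 (h.2.trans h0))
    have h1 := congrArg (X.presheaf.stalkSpecializes hyz) h.2
    rw [map_mul, X.presheaf.germ_stalkSpecializes_apply, X.presheaf.germ_stalkSpecializes_apply,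
      X.presheaf.germ_stalkSpecializes_apply] at h1
    exact (IsUnit.mul_iff.1 (h1 ▸ hunit a' ha)).1
  obtain ⟨N, hN, hzN, hNd⟩ := exists_nhd_zero hV' hzV' hyV' hyU hunit'
    (ker_transfer hV hz hzV' hy hyV' hyz hker) d hd
  refine ⟨N, hN.trans hV'V, X.presheaf.map (homOfLE (hN.trans hV'0)).op t, hzN, ?_⟩
  simp only [d, map_sub, sub_eq_zero, ← CommRingCat.comp_apply, ← Functor.map_comp] at hNd
  rw [← CommRingCat.comp_apply, ← Functor.map_comp]
  exact hNd.symm


include hZ in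
/-- Restriction of functions on an affine open to `U` is bijective. -/
theorem bijective_res [QuasiCompact U.ι] {V : X.Opens} (hV : IsAffineOpen V) :
    Function.Bijective (X.presheaf.map (homOfLE inf_le_left : V ⊓ U ⟶ V).op) := by
  refine ⟨fun s t h => eq_of_res hZ h, fun s => ?_⟩
  have hex : ∀ z : V, ∃ (N : X.Opens) (hN : N ≤ V) (t : Γ(X, N)), z.1 ∈ N ∧
      X.presheaf.map (homOfLE inf_le_left : N ⊓ U ⟶ N).op t =
        X.presheaf.map (homOfLE (inf_le_inf_right U hN) : N ⊓ U ⟶ V ⊓ U).op s := by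
    intro z
    by_cases hzU : z.1 ∈ U
    · refine ⟨V ⊓ U, inf_le_left, s, ⟨z.2, hzU⟩, ?_⟩
      rfl
    · exact exists_extend_near hZ hV z.2 hzU s
  choose N hN t hzN ht using hex
  have hcomp : TopCat.Presheaf.IsCompatible X.sheaf.1 N t := by
    intro i j
    apply eq_of_res hZ
    have e : ∀ k : V, ∀ hk : N i ⊓ N j ≤ N k,
        X.presheaf.map (homOfLE inf_le_left : N i ⊓ N j ⊓ U ⟶ N i ⊓ N j).op (X.presheaf.map (homOfLE hk).op (t k)) =
          X.presheaf.map (homOfLE (inf_le_inf_right U (hk.trans (hN k)))).op s := by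
      intro k hk
      have h := congrArg (X.presheaf.map (homOfLE (inf_le_inf_right U hk) : N i ⊓ N j ⊓ U ⟶ N k ⊓ U).op) (ht k)
      simp only [← CommRingCat.comp_apply, ← Functor.map_comp] at h ⊢
      exact h
    exact (e i inf_le_left).trans (e j inf_le_right).symm
  obtain ⟨t₀, ht₀, -⟩ := X.sheaf.existsUnique_gluing' N V (fun z => homOfLE (hN z))
    (fun z hz => Opens.mem_iSup.2 ⟨⟨z, hz⟩, hzN ⟨z, hz⟩⟩) t hcomp
  refine ⟨t₀, ?_⟩
  refine X.sheaf.eq_of_locally_eq' (fun z => N z ⊓ U) (V ⊓ U) (fun z => homOfLE (inf_le_inf_right U (hN z)))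
    (fun z hz => Opens.mem_iSup.2 ⟨⟨z, hz.1⟩, hzN ⟨z, hz.1⟩, hz.2⟩) _ _ fun z => ?_
  refine Eq.trans ?_ (ht z)
  have h1 : X.presheaf.map (homOfLE (hN z)).op t₀ = t z := ht₀ z
  rw [← h1]
  show X.presheaf.map _ (X.presheaf.map _ t₀) = _
  simp only [← CommRingCat.comp_apply, ← Functor.map_comp]
  rfl


end Groth.Agent.FlatHartogs.Normal
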