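import Groth.Agent.FlatHartogs.Normal
import Groth.Agent.ExtBC.Tilde
import Groth.Agent.ZCl.Basic
import Groth.Agent.LocFree.Props
import Groth.Prelude.Def_FlatMod2

/-!
Flat quasi-coherent modules on a normal Noetherian scheme are determined by their sections away from codimension two.
-/

set_option autoImplicit false
set_option linter.style.haveILetI false
set_option backward.isDefEq.respectTransparency false
set_option backward.isDefEq.respectTransparency.types false
set_option maxHeartbeats 2000000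

universe u

open CategoryTheory CategoryTheory.Limits AlgebraicGeometry TopologicalSpace Opposite TensorProduct

noncomputable section

namespace Groth.Agent.FlatHartogs

section Algebra

variable {B M : Type u} [CommRing B] [AddCommGroup M] [Module B M] [Module.Flat B M]
  {ι κ : Type} [Fintype ι] [Fintype κ] [DecidableEq ι] [DecidableEq κ]
  (R : ι → Type u) [∀ i, CommRing (R i)] [∀ i, Algebra B (R i)]
  (R₂ : κ → Type u) [∀ k, CommRing (R₂ k)] [∀ k, Algebra B (R₂ k)]
  (a b : κ → ι) (ra : ∀ k, R (a k) →ₐ[B] R₂ k) (rb : ∀ k, R (b k) →ₐ[B] R₂ k)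

include ra rb in
/-- gluing of tensor products with a flat module -/
theorem glue (hinj : ∀ x : B, (∀ i, algebraMap B (R i) x = 0) → x = 0)
    (hglue : ∀ v : ∀ i, R i, (∀ k, ra k (v (a k)) = rb k (v (b k))) → ∃ x, ∀ i, algebraMap B (R i) x = v i)
    (N : ι → Type u) [∀ i, AddCommGroup (N i)] [∀ i, Module B (N i)] [∀ i, Module (R i) (N i)]
    [∀ i, IsScalarTower B (R i) (N i)]
    (N₂ : κ → Type u) [∀ k, AddCommGroup (N₂ k)] [∀ k, Module B (N₂ k)] [∀ k, Module (R₂ k) (N₂ k)]
    [∀ k, IsScalarTower B (R₂ k) (N₂ k)]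
    (f : ∀ i, M →ₗ[B] N i) (hf : ∀ i, IsBaseChange (R i) (f i))
    (f₂ : ∀ k, M →ₗ[B] N₂ k) (hf₂ : ∀ k, IsBaseChange (R₂ k) (f₂ k))
    (na : ∀ k, N (a k) →+ N₂ k) (nb : ∀ k, N (b k) →+ N₂ k)
    (hna : ∀ k r m, na k (r • f (a k) m) = ra k r • f₂ k m)
    (hnb : ∀ k r m, nb k (r • f (b k) m) = rb k r • f₂ k m) :
    (∀ m : M, (∀ i, f i m = 0) → m = 0) ∧
      ∀ n : ∀ i, N i, (∀ k, na k (n (a k)) = nb k (n (b k))) → ∃ m : M, ∀ i, f i m = n i := by
  let δ : B →ₗ[B] (∀ i, R i) := LinearMap.pi fun i => Algebra.linearMap B (R i)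
  let d : (∀ i, R i) →ₗ[B] (∀ k, R₂ k) := LinearMap.pi fun k =>
    (ra k).toLinearMap.comp (LinearMap.proj (a k)) - (rb k).toLinearMap.comp (LinearMap.proj (b k))
  have hδ : Function.Injective δ := (injective_iff_map_eq_zero _).2 fun x hx => hinj x fun i => congrFun hx i
  have hd : Function.Exact δ d := by
    intro v
    constructor
    · intro hv
      obtain ⟨x, hx⟩ := hglue v fun k => sub_eq_zero.1 (congrFun hv k)
      exact ⟨x, funext hx⟩
    · rintro ⟨x, rfl⟩
      funext k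
      simp [δ, d]
  -- identify the tensor products
  let e : M ⊗[B] (∀ i, R i) ≃ₗ[B] (∀ i, N i) := (TensorProduct.piRight B B M R).trans
    (LinearEquiv.piCongrRight fun i => (TensorProduct.comm B M (R i)).trans ((hf i).equiv.restrictScalars B))
  let e₂ : M ⊗[B] (∀ k, R₂ k) ≃ₗ[B] (∀ k, N₂ k) := (TensorProduct.piRight B B M R₂).trans
    (LinearEquiv.piCongrRight fun k => (TensorProduct.comm B M (R₂ k)).trans ((hf₂ k).equiv.restrictScalars B))
  have he : ∀ m v i, e (m ⊗ₜ v) i = v i • f i m := fun m v i => by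
    simp [e, IsBaseChange.equiv_tmul]
  have he₂ : ∀ m v k, e₂ (m ⊗ₜ v) k = v k • f₂ k m := fun m v k => by
    simp [e₂, IsBaseChange.equiv_tmul]
  have hcomm : ∀ (x : M ⊗[B] (∀ i, R i)) k, e₂ (d.lTensor M x) k = na k (e x (a k)) - nb k (e x (b k)) := by
    intro x k
    induction x using TensorProduct.induction_on with
    | zero => simp
    | add x y hx hy =>
      simp only [map_add, Pi.add_apply, hx, hy]
      abel
    | tmul m v =>
      rw [LinearMap.lTensor_tmul, he₂, he, he, hna, hnb, ← sub_smul]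
      rfl
  have hδm : ∀ m i, e (δ.lTensor M (m ⊗ₜ 1)) i = f i m := fun m i => by
    rw [LinearMap.lTensor_tmul, he]
    simp [δ]
  refine ⟨fun m hm => ?_, fun n hn => ?_⟩
  · have h1 : δ.lTensor M (m ⊗ₜ (1 : B)) = 0 := e.injective (by
      funext i; rw [hδm, hm, map_zero]; rfl)
    have h2 := Module.Flat.lTensor_preserves_injective_linearMap δ hδ (h1.trans (map_zero _).symm)
    simpa using congrArg (TensorProduct.rid B M) h2
  · have h1 : d.lTensor M (e.symm n) = 0 := e₂.injective (by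
      funext k; rw [hcomm, LinearEquiv.apply_symm_apply, hn, sub_self, map_zero]; rfl)
    obtain ⟨y, hy⟩ := (Module.Flat.lTensor_exact M hd _).1 h1
    refine ⟨TensorProduct.rid B M y, fun i => ?_⟩
    rw [← hδm, ← TensorProduct.rid_symm_apply, LinearEquiv.symm_apply_apply, hy, LinearEquiv.apply_symm_apply]

end Algebra

variable {X : Scheme.{u}} [IsNoetherian X] {A : X.Modules} (hA : Coh.IsQCoh A)

/-- restriction of functions as an algebra -/
abbrev algRes {U V : X.Opens} (h : V ≤ U) : Algebra Γ(X, U) Γ(X, V) := (X.presheaf.map (homOfLE h).op).hom.toAlgebra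

include hA in
/-- restriction of sections to a smaller affine open is a base change -/
theorem isBaseChange_res {U V : X.Opens} (hU : IsAffineOpen U) (hV : IsAffineOpen V) (h : V ≤ U) :
    letI := algRes h
    letI : Module Γ(X, U) Γ(A, V) := Module.compHom _ (algebraMap Γ(X, U) Γ(X, V))
    haveI : IsScalarTower Γ(X, U) Γ(X, V) Γ(A, V) := IsScalarTower.of_algebraMap_smul fun _ _ => rfl
    ∀ f : Γ(A, U) →ₗ[Γ(X, U)] Γ(A, V), (∀ m, f m = A.presheaf.map (homOfLE h).op m) →
      IsBaseChange Γ(X, V) f := by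
  letI := algRes h
  letI : Module Γ(X, U) Γ(A, V) := Module.compHom _ (algebraMap Γ(X, U) Γ(X, V))
  haveI : IsScalarTower Γ(X, U) Γ(X, V) Γ(A, V) := IsScalarTower.of_algebraMap_smul fun _ _ => rfl
  intro f hf
  refine IsBaseChange.of_lift_unique f fun Q i₁ _ i₃ _ g => ?_
  letI : AddCommGroup Q := @Module.addCommMonoidToAddCommGroup Γ(X, V) Q _ i₁ i₃
  obtain ⟨F, hF, huniq⟩ := ExtBC.existsUnique_res hA hU hV h Q g.toAddMonoidHom fun r x => by
    change g (r • x) = algebraMap Γ(X, U) Γ(X, V) r • g x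
    rw [map_smul, IsScalarTower.algebraMap_smul]
  refine ⟨F, LinearMap.ext fun m => ?_, fun F' hF' => huniq F' fun m => ?_⟩
  · change F (f m) = g m
    rw [hf]
    exact hF m
  · have := congrArg (fun φ => φ m) hF'
    change F' (f m) = g m at this
    rw [hf] at this
    exact this

include hA in
theorem bijective_res_flat (hX : ∀ x : X, IsDomain (X.presheaf.stalk x) ∧ IsIntegrallyClosed (X.presheaf.stalk x))
    (hflat : FlatMod.IsFlat A) {U : X.Opens} (hU : ∀ x : X, ringKrullDim (X.presheaf.stalk x) ≤ 1 → x ∈ U)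
    {V : X.Opens} (hV : IsAffineOpen V) :
    Function.Bijective (A.presheaf.map (homOfLE inf_le_left : V ⊓ U ⟶ V).op) := by
  have hZ : ∀ z : X, z ∉ U → (IsDomain (X.presheaf.stalk z) ∧ IsIntegrallyClosed (X.presheaf.stalk z) ∧
      IsNoetherianRing (X.presheaf.stalk z)) ∧ (2 : WithBot ℕ∞) ≤ ringKrullDim (X.presheaf.stalk z) := fun z hz => by
    refine ⟨⟨(hX z).1, (hX z).2, inferInstance⟩, ?_⟩
    have h1 : ¬ ringKrullDim (X.presheaf.stalk z) ≤ 1 := fun h => hz (hU z h)
    rw [not_le, ringKrullDim_stalk_eq_coheight] at h1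
    rw [ringKrullDim_stalk_eq_coheight]
    have h2 : (1 : ℕ∞) < Order.coheight z := by exact_mod_cast h1
    have h3 : (2 : ℕ∞) ≤ Order.coheight z := by
      rw [← one_add_one_eq_two]; exact Order.add_one_le_of_lt h2
    exact WithBot.coe_le_coe.2 h3
  haveI : QuasiCompact U.ι := inferInstance
  have hO := Normal.bijective_res hZ hV
  let B := Γ(X, V)
  haveI : Module.Flat B Γ(A, V) := LocFree.flat_sections hV hA hflat
  -- cover `V ⊓ U` by basic opens
  have hex : ∀ x : (V ⊓ U : X.Opens), ∃ g : B, X.basicOpen g ≤ V ⊓ U ∧ x.1 ∈ X.basicOpen g := fun x =>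
    hV.exists_basicOpen_le ⟨x.1, x.2⟩ x.2.1
  choose g₀ hg₀ hxg₀ using hex
  obtain ⟨t, ht⟩ := (NoetherianSpace.isCompact ((V ⊓ U : X.Opens) : Set X)).elim_finite_subcover
    (fun x => (X.basicOpen (g₀ x) : Set X)) (fun x => (X.basicOpen (g₀ x)).2)
    (fun x hx => Set.mem_iUnion.2 ⟨⟨x, hx⟩, hxg₀ ⟨x, hx⟩⟩)
  let n := t.card
  let g : Fin n → B := fun i => g₀ (t.equivFin.symm i).1
  let W : Fin n → X.Opens := fun i => X.basicOpen (g i)
  let W₂ : Fin n × Fin n → X.Opens := fun k => W k.1 ⊓ W k.2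
  have hWaff : ∀ i, IsAffineOpen (W i) := fun i => hV.basicOpen (g i)
  have hW₂aff : ∀ k, IsAffineOpen (W₂ k) := fun k => by
    change IsAffineOpen (X.basicOpen (g k.1) ⊓ X.basicOpen (g k.2))
    rw [← Scheme.basicOpen_mul]
    exact hV.basicOpen _
  have hWle : ∀ i, W i ≤ V ⊓ U := fun i => hg₀ _
  have hWV : ∀ i, W i ≤ V := fun i => (hWle i).trans inf_le_left
  have hW₂V : ∀ k, W₂ k ≤ V := fun k => inf_le_left.trans (hWV k.1)
  have hcov : (V ⊓ U : X.Opens) ≤ ⨆ i, W i := fun x hx => by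
    obtain ⟨y, hy, hxy⟩ := Set.mem_iUnion₂.1 (ht hx)
    refine Opens.mem_iSup.2 ⟨t.equivFin ⟨y, hy⟩, ?_⟩
    change x ∈ X.basicOpen (g₀ _)
    rw [Equiv.symm_apply_apply]
    exact hxy
  letI : ∀ i, Algebra B Γ(X, W i) := fun i => algRes (hWV i)
  letI : ∀ k, Algebra B Γ(X, W₂ k) := fun k => algRes (hW₂V k)
  letI : ∀ i, Module B Γ(A, W i) := fun i => Module.compHom _ (algebraMap B Γ(X, W i))
  letI : ∀ k, Module B Γ(A, W₂ k) := fun k => Module.compHom _ (algebraMap B Γ(X, W₂ k))
  haveI : ∀ i, IsScalarTower B Γ(X, W i) Γ(A, W i) := fun i => IsScalarTower.of_algebraMap_smul fun _ _ => rfl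
  haveI : ∀ k, IsScalarTower B Γ(X, W₂ k) Γ(A, W₂ k) := fun k => IsScalarTower.of_algebraMap_smul fun _ _ => rfl
  let ra : ∀ k, Γ(X, W k.1) →ₐ[B] Γ(X, W₂ k) := fun k =>
    { (X.presheaf.map (homOfLE (inf_le_left : W₂ k ≤ W k.1)).op).hom with
      commutes' := fun r => by
        change X.presheaf.map _ (X.presheaf.map _ r) = X.presheaf.map _ r
        rw [← CommRingCat.comp_apply, ← Functor.map_comp]; rfl }
  let rb : ∀ k, Γ(X, W k.2) →ₐ[B] Γ(X, W₂ k) := fun k =>
    { (X.presheaf.map (homOfLE (inf_le_right : W₂ k ≤ W k.2)).op).hom with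
      commutes' := fun r => by
        change X.presheaf.map _ (X.presheaf.map _ r) = X.presheaf.map _ r
        rw [← CommRingCat.comp_apply, ← Functor.map_comp]; rfl }
  let f : ∀ i, Γ(A, V) →ₗ[B] Γ(A, W i) := fun i =>
    { toFun := A.presheaf.map (homOfLE (hWV i)).op
      map_add' := map_add _
      map_smul' := fun r m => A.map_smul (homOfLE (hWV i)) r m }
  let f₂ : ∀ k, Γ(A, V) →ₗ[B] Γ(A, W₂ k) := fun k =>
    { toFun := A.presheaf.map (homOfLE (hW₂V k)).op
      map_add' := map_add _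
      map_smul' := fun r m => A.map_smul (homOfLE (hW₂V k)) r m }
  obtain ⟨hinj, hsurj⟩ := glue (B := B) (M := Γ(A, V)) (fun i => Γ(X, W i)) (fun k => Γ(X, W₂ k))
    (fun k : Fin n × Fin n => k.1) (fun k => k.2) ra rb
    (fun x hx => hO.1 (by
      rw [map_zero]
      refine X.sheaf.eq_of_locally_eq' W (V ⊓ U) (fun i => homOfLE (hWle i)) hcov _ _ fun i => ?_
      rw [map_zero]
      change X.presheaf.map _ (X.presheaf.map _ x) = 0
      rw [← CommRingCat.comp_apply, ← Functor.map_comp]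
      exact hx i))
    (fun v hv => by
      obtain ⟨s₀, hs₀, -⟩ := X.sheaf.existsUnique_gluing' W (V ⊓ U) (fun i => homOfLE (hWle i)) hcov v
        (fun i j => hv (i, j))
      obtain ⟨x, hx⟩ := hO.2 s₀
      refine ⟨x, fun i => ?_⟩
      rw [← hs₀ i, ← hx]
      change X.presheaf.map _ x = X.presheaf.map _ (X.presheaf.map _ x)
      rw [← CommRingCat.comp_apply, ← Functor.map_comp]; rfl)
    (fun i => Γ(A, W i)) (fun k => Γ(A, W₂ k))
    f (fun i => isBaseChange_res hA hV (hWaff i) (hWV i) (f i) fun _ => rfl)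
    f₂ (fun k => isBaseChange_res hA hV (hW₂aff k) (hW₂V k) (f₂ k) fun _ => rfl)
    (fun k => (A.presheaf.map (homOfLE (inf_le_left : W₂ k ≤ W k.1)).op).hom)
    (fun k => (A.presheaf.map (homOfLE (inf_le_right : W₂ k ≤ W k.2)).op).hom)
    (fun k r m => by
      refine (A.map_smul (homOfLE _) r _).trans (congrArg (fun z => ra k r • z) ?_)
      change A.presheaf.map _ (A.presheaf.map _ m) = A.presheaf.map _ m
      rw [← ConcreteCategory.comp_apply, ← Functor.map_comp]; rfl)
    (fun k r m => by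
      refine (A.map_smul (homOfLE _) r _).trans (congrArg (fun z => rb k r • z) ?_)
      change A.presheaf.map _ (A.presheaf.map _ m) = A.presheaf.map _ m
      rw [← ConcreteCategory.comp_apply, ← Functor.map_comp]; rfl)
  let Sh : TopCat.Sheaf Ab X := ⟨A.presheaf, A.isSheaf⟩
  refine ⟨(injective_iff_map_eq_zero _).2 fun m hm => hinj m fun i => ?_, fun s₀ => ?_⟩
  · have := congrArg (A.presheaf.map (homOfLE (hWle i)).op) hm
    rw [map_zero, ← ConcreteCategory.comp_apply, ← Functor.map_comp] at this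
    exact this
  · obtain ⟨m, hm⟩ := hsurj (fun i => A.presheaf.map (homOfLE (hWle i)).op s₀) fun k => by
      change A.presheaf.map _ (A.presheaf.map _ s₀) = A.presheaf.map _ (A.presheaf.map _ s₀)
      rw [← ConcreteCategory.comp_apply, ← Functor.map_comp, ← ConcreteCategory.comp_apply, ← Functor.map_comp]
      rfl
    refine ⟨m, Sh.eq_of_locally_eq' W (V ⊓ U) (fun i => homOfLE (hWle i)) hcov _ _ fun i => ?_⟩
    refine Eq.trans ?_ (hm i)
    change A.presheaf.map _ (A.presheaf.map _ m) = A.presheaf.map _ m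
    rw [← ConcreteCategory.comp_apply, ← Functor.map_comp]; rfl

include hA in
theorem isIso_unit (hX : ∀ x : X, IsDomain (X.presheaf.stalk x) ∧ IsIntegrallyClosed (X.presheaf.stalk x))
    (hflat : FlatMod.IsFlat A) (U : X.Opens) (hU : ∀ x : X, ringKrullDim (X.presheaf.stalk x) ≤ 1 → x ∈ U) :
    IsIso ((Scheme.Modules.restrictAdjunction U.ι).unit.app A) := by
  refine ZCl.isIso_of_bijective _ fun O => ?_
  have key := fun (V : X.Opens) (hV : IsAffineOpen V) => bijective_res_flat hA hX hflat hU hV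
  let Sh : TopCat.Sheaf Ab X := ⟨A.presheaf, A.isSheaf⟩
  have hres : Function.Bijective (A.presheaf.map (homOfLE inf_le_left : O ⊓ U ⟶ O).op) := by
    have hex : ∀ x : O, ∃ V : X.Opens, IsAffineOpen V ∧ x.1 ∈ V ∧ V ≤ O := fun x => by
      obtain ⟨V, hV, hxV, hVO⟩ := exists_isAffineOpen_mem_and_subset (U := O) x.2
      exact ⟨V, hV, hxV, hVO⟩
    choose V hV hxV hVO using hex
    have hcov : O ≤ ⨆ x, V x := fun x hx => Opens.mem_iSup.2 ⟨⟨x, hx⟩, hxV _⟩
    have hinjO : ∀ (P : X.Opens) (hP : P ≤ O) (a b : Γ(A, P)),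
        A.presheaf.map (homOfLE inf_le_left : P ⊓ U ⟶ P).op a = A.presheaf.map (homOfLE inf_le_left : P ⊓ U ⟶ P).op b →
        a = b := by
      intro P hP a b hab
      have hex' : ∀ x : P, ∃ V : X.Opens, IsAffineOpen V ∧ x.1 ∈ V ∧ V ≤ P := fun x => by
        obtain ⟨V, hV, hxV, hVO⟩ := exists_isAffineOpen_mem_and_subset (U := P) x.2
        exact ⟨V, hV, hxV, hVO⟩
      choose V' hV' hxV' hVP using hex'
      refine Sh.eq_of_locally_eq' V' P (fun x => homOfLE (hVP x))
        (fun x hx => Opens.mem_iSup.2 ⟨⟨x, hx⟩, hxV' _⟩) _ _ fun x => (key _ (hV' x)).1 ?_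
      have h := congrArg (A.presheaf.map (homOfLE (inf_le_inf_right U (hVP x))).op) hab
      change A.presheaf.map _ (A.presheaf.map _ a) = A.presheaf.map _ (A.presheaf.map _ b)
      simp only [← ConcreteCategory.comp_apply, ← Functor.map_comp] at h ⊢
      exact h
    refine ⟨fun a b hab => hinjO O le_rfl a b hab, fun s => ?_⟩
    choose m hm using fun x => (key _ (hV x)).2 (A.presheaf.map (homOfLE (inf_le_inf_right U (hVO x))).op s)
    obtain ⟨m₀, hm₀, -⟩ := Sh.existsUnique_gluing' V O (fun x => homOfLE (hVO x)) hcov m fun x y => by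
      refine hinjO _ (inf_le_left.trans (hVO x)) _ _ ?_
      have hx := congrArg (A.presheaf.map (homOfLE (inf_le_inf_right U (inf_le_left : V x ⊓ V y ≤ V x))).op) (hm x)
      have hy := congrArg (A.presheaf.map (homOfLE (inf_le_inf_right U (inf_le_right : V x ⊓ V y ≤ V y))).op) (hm y)
      change A.presheaf.map _ (A.presheaf.map _ (m x)) = A.presheaf.map _ (A.presheaf.map _ (m y))
      simp only [← ConcreteCategory.comp_apply, ← Functor.map_comp] at hx hy ⊢
      exact hx.trans hy.symm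
    refine ⟨m₀, Sh.eq_of_locally_eq' (fun x => V x ⊓ U) (O ⊓ U) (fun x => homOfLE (inf_le_inf_right U (hVO x)))
      (fun x hx => Opens.mem_iSup.2 ⟨⟨x, hx.1⟩, hxV _, hx.2⟩) _ _ fun x => ?_⟩
    refine Eq.trans ?_ (hm x)
    rw [← hm₀ x]
    change A.presheaf.map _ (A.presheaf.map _ m₀) = A.presheaf.map _ (A.presheaf.map _ m₀)
    simp only [← ConcreteCategory.comp_apply, ← Functor.map_comp]
    rfl
  rw [Scheme.Modules.restrictAdjunction_unit_app_app]
  have e : U.ι ''ᵁ U.ι ⁻¹ᵁ O = O ⊓ U := by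
    rw [Scheme.Hom.image_preimage_eq_opensRange_inf, Scheme.Opens.opensRange_ι, inf_comm]
  have key' : ∀ P (h : P ≤ O), P = O ⊓ U → Function.Bijective (A.presheaf.map (homOfLE h).op) := by
    rintro P h rfl
    exact hres
  exact key' _ _ e

end Groth.Agent.FlatHartogs
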